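import Groth.Agent.Easy3.TreeSys

/-! Stability on the complement of a spanning tree, in flow coordinates. -/

universe u

namespace Groth.Agent.PhiStabLib

open Groth.Agent.CompGroup PhiStab Finset

variable {V E : Type u} [Fintype V] [Fintype E] [DecidableEq V] [DecidableEq E]

/-- A vertex set closed under adjacency in a connected graph is empty or everything. -/
theorem exists_cut_edge {ι : Type u} (g : ι → V × V) (hg : LabGraph.Connected g) (S : Finset V)
    (hne : S.Nonempty) (hnu : S ≠ univ) :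
    ∃ i, ((g i).1 ∈ S ∧ (g i).2 ∉ S) ∨ ((g i).1 ∉ S ∧ (g i).2 ∈ S) := by
  by_contra hc
  push Not at hc
  obtain ⟨a, ha⟩ := hne
  refine hnu (Finset.eq_univ_of_forall fun w => ?_)
  induction hg.2 a w with
  | refl => exact ha
  | @tail p q _ hpq ih =>
    obtain ⟨i, h | h⟩ := hpq <;> have h1 := hc i <;> rw [h] at h1 <;> dsimp only at h1 <;> tauto

/-- The second endpoint of an edge of a tree is not on the side of the first. -/
theorem snd_notMem_side (ends : E → V × V) (hT : DualGr.IsTree ends) (e : E) :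
    (ends e).2 ∉ side ends e := by
  classical
  intro h
  simp only [side, Finset.mem_filter, Finset.mem_univ, true_and] at h
  have key : ∀ v, Relation.ReflTransGen (LabGraph.Adj (spanEnds ends (Finset.univ.erase e))) (ends e).1 v →
      ∃ x : E → ZMod 2, x e = 0 ∧ inc2 ends x = Pi.single (ends e).1 1 + Pi.single v 1 := by
    intro v hv
    induction hv with
    | refl => exact ⟨0, rfl, by rw [map_zero]; funext i; simp [CharTwo.add_self_eq_zero]⟩
    | @tail b d _ hbd ih =>
      obtain ⟨x, hxe, hx⟩ := ih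
      obtain ⟨⟨e', he'⟩, h'⟩ := hbd
      refine ⟨x + Pi.single e' 1, by simp [hxe, (Finset.ne_of_mem_erase he').symm], ?_⟩
      have : inc2 ends (Pi.single e' 1) = Pi.single b 1 + Pi.single d 1 := by
        rcases h' with h' | h' <;> simp only [spanEnds] at h' <;>
          simp [inc2, Fintype.linearCombination_apply_single, h', add_comm]
      rw [map_add, hx, this]
      funext i
      simp only [Pi.add_apply]
      have h3 : ∀ a b c : ZMod 2, a + b + (b + c) = a + c := by decide
      exact h3 _ _ _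
  obtain ⟨x, hxe, hx⟩ := key _ h
  have : x = Pi.single e 1 := (isForest_iff_injective ends).1 hT.2 (by
    rw [hx]; simp [inc2, Fintype.linearCombination_apply_single])
  rw [this] at hxe
  simp at hxe

/-- The vertex vector of a flow. -/
noncomputable def flow {R : Type*} [CommRing R] (ends : E → V × V) (y : E → R) (v : V) : R :=
  ∑ e, y e * ((if (ends e).1 = v then 1 else 0) - (if (ends e).2 = v then 1 else 0))

theorem sum_flow {R : Type*} [CommRing R] (ends : E → V × V) (y : E → R) (S : Finset V) :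
    ∑ v ∈ S, flow ends y v =
      ∑ e, y e * ((if (ends e).1 ∈ S then 1 else 0) - (if (ends e).2 ∈ S then 1 else 0)) := by
  simp only [flow]
  rw [Finset.sum_comm]
  refine Finset.sum_congr rfl fun e _ => ?_
  rw [← Finset.mul_sum, Finset.sum_sub_distrib, Finset.sum_ite_eq, Finset.sum_ite_eq]

theorem mem_side_iff (ends : E → V × V) (hT : DualGr.IsTree ends) (e e' : E) :
    ((ends e).1 ∈ side ends e ∧ (ends e).2 ∉ side ends e) ∧
      (e ≠ e' → ((ends e).1 ∈ side ends e' ↔ (ends e).2 ∈ side ends e')) := by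
  refine ⟨⟨by simp [side, Relation.ReflTransGen.refl], snd_notMem_side ends hT e⟩, fun hne => ?_⟩
  simp only [side, Finset.mem_filter, Finset.mem_univ, true_and]
  exact ⟨fun h => h.tail ⟨⟨e, Finset.mem_erase.2 ⟨hne, Finset.mem_univ e⟩⟩, Or.inl rfl⟩,
    fun h => h.tail ⟨⟨e, Finset.mem_erase.2 ⟨hne, Finset.mem_univ e⟩⟩, Or.inr rfl⟩⟩

theorem sum_side_flow {R : Type*} [CommRing R] (ends : E → V × V) (hT : DualGr.IsTree ends) (y : E → R)
    (e : E) : ∑ v ∈ side ends e, flow ends y v = y e := by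
  rw [sum_flow, Finset.sum_eq_single e]
  · rw [if_pos (mem_side_iff ends hT e e).1.1, if_neg (mem_side_iff ends hT e e).1.2, sub_zero, mul_one]
  · intro e' _ hne
    simp only [(mem_side_iff ends hT e' e).2 hne, sub_self, mul_zero]
  · simp

theorem sum_univ_flow {R : Type*} [CommRing R] (ends : E → V × V) (y : E → R) :
    ∑ v, flow ends y v = 0 := by
  rw [sum_flow]; simp

/-- A balanced vertex vector is the flow of its side sums. -/
theorem eq_flow (ends : E → V × V) (hT : DualGr.IsTree ends) (x : V → ℝ) (hx : ∑ v, x v = 0) :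
    x = flow ends (fun e => ∑ v ∈ side ends e, x v) :=
  (Groth.Agent.Easy3.existsUnique_weighting ends hT (fun e => ∑ v ∈ side ends e, x v) 0).unique
    ⟨fun _ => rfl, hx⟩ ⟨fun e => sum_side_flow ends hT _ e, sum_univ_flow ends _⟩

section Stab

variable (ends : E → V × V) (T : Finset E)

/-- Half of the number of ends at `v` of edges outside `T`. -/
noncomputable def halfN (v : V) : ℝ :=
  ∑ e ∈ Tᶜ, ((if (ends e).1 = v then 1 else 0) + (if (ends e).2 = v then 1 else 0) : ℝ) / 2

/-- The balanced vector of a datum. -/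
noncomputable def bal (φ : V → ℝ) (m : V → ℤ) (v : V) : ℝ := (m v : ℝ) - φ v + halfN ends T v

theorem sum_halfN (S : Finset V) : ∑ v ∈ S, halfN ends T v =
    ∑ e ∈ Tᶜ, ((if (ends e).1 ∈ S then 1 else 0) + (if (ends e).2 ∈ S then 1 else 0) : ℝ) / 2 := by
  simp only [halfN]
  rw [Finset.sum_comm]
  refine Finset.sum_congr rfl fun e _ => ?_
  rw [← Finset.sum_div, Finset.sum_add_distrib, Finset.sum_ite_eq, Finset.sum_ite_eq]

theorem sum_bal_univ (φ : V → ℝ) (m : V → ℤ) :
    ∑ v, bal ends T φ m v = (totDeg m Tᶜ : ℝ) - ∑ v, φ v := by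
  simp only [bal, Finset.sum_add_distrib, Finset.sum_sub_distrib, sum_halfN, Finset.mem_univ, if_true]
  norm_num [totDeg]
  ring

/-- The defect of a datum on a vertex set, edge by edge of the tree. -/
theorem defect_eq (hT : DualGr.IsTree (spanEnds ends T)) (φ : V → ℝ) (m : V → ℤ)
    (hdeg : (∑ v, φ v) = (totDeg m Tᶜ : ℝ)) (S : Finset V) :
    (degOn ends m Tᶜ S : ℝ) - ((∑ v ∈ S, φ v) - (LabGraph.cut ends S : ℝ) / 2) =
      ∑ e : {e : E // e ∈ T}, ((∑ v ∈ side (spanEnds ends T) e, bal ends T φ m v) *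
          ((if (ends e.1).1 ∈ S then 1 else 0) - (if (ends e.1).2 ∈ S then 1 else 0)) +
        (if ((ends e.1).1 ∈ S ∧ (ends e.1).2 ∉ S) ∨ ((ends e.1).1 ∉ S ∧ (ends e.1).2 ∈ S) then 1 else 0) / 2) := by
  have hx : ∑ v, bal ends T φ m v = 0 := by rw [sum_bal_univ, hdeg, sub_self]
  have h1 := congrArg (fun f : V → ℝ => ∑ v ∈ S, f v) (eq_flow (spanEnds ends T) hT _ hx)
  simp only [sum_flow] at h1
  have h1' : ∑ v ∈ S, bal ends T φ m v = ∑ e : {e : E // e ∈ T},
      (∑ v ∈ side (spanEnds ends T) e, bal ends T φ m v) *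
        ((if (ends e.1).1 ∈ S then 1 else 0) - (if (ends e.1).2 ∈ S then 1 else 0)) := h1
  rw [Finset.sum_add_distrib, ← h1', ← Finset.sum_div]
  simp only [bal, Finset.sum_add_distrib, Finset.sum_sub_distrib, sum_halfN]
  let c : E → ℝ := fun e =>
    if ((ends e).1 ∈ S ∧ (ends e).2 ∉ S) ∨ ((ends e).1 ∉ S ∧ (ends e).2 ∈ S) then 1 else 0
  have hcut : (LabGraph.cut ends S : ℝ) = (∑ e ∈ T, c e) + ∑ e ∈ Tᶜ, c e := by
    rw [Finset.sum_add_sum_compl, LabGraph.cut, Finset.natCast_card_filter]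
  have hinner : ((Tᶜ ∩ inner ends S).card : ℝ) =
      ∑ e ∈ Tᶜ, if (ends e).1 ∈ S ∧ (ends e).2 ∈ S then 1 else 0 := by
    rw [← Finset.natCast_card_filter]
    congr 2
    ext e; simp [PhiStab.inner]
  have hN : ∑ e ∈ Tᶜ, ((if (ends e).1 ∈ S then 1 else 0) + (if (ends e).2 ∈ S then 1 else 0) : ℝ) / 2 =
      (∑ e ∈ Tᶜ, if (ends e).1 ∈ S ∧ (ends e).2 ∈ S then (1 : ℝ) else 0) + (∑ e ∈ Tᶜ, c e) / 2 := by
    rw [Finset.sum_div, ← Finset.sum_add_distrib]
    refine Finset.sum_congr rfl fun e _ => ?_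
    by_cases h1 : (ends e).1 ∈ S <;> by_cases h2 : (ends e).2 ∈ S <;> simp [c, h1, h2]
  have hT' : ∑ e : {e : E // e ∈ T}, c e.1 = ∑ e ∈ T, c e := Finset.sum_coe_sort T c
  rw [degOn, Int.cast_add, Int.cast_sum, Int.cast_natCast, hinner, hcut, hN]
  simp only [c] at hT' ⊢
  rw [hT']
  ring

theorem abs_lt_of_isStable (hT : DualGr.IsTree (spanEnds ends T)) (φ : V → ℝ) (m : V → ℤ)
    (hdeg : (∑ v, φ v) = (totDeg m Tᶜ : ℝ)) (h : IsStable ends φ m Tᶜ) (e : {e : E // e ∈ T}) :
    -(1 / 2 : ℝ) < ∑ v ∈ side (spanEnds ends T) e, bal ends T φ m v ∧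
      ∑ v ∈ side (spanEnds ends T) e, bal ends T φ m v < 1 / 2 := by
  set S := side (spanEnds ends T) e with hSdef
  have he := (mem_side_iff (spanEnds ends T) hT e e).1
  simp only [spanEnds] at he
  have hne : S.Nonempty := ⟨_, he.1⟩
  have hnu : S ≠ univ := fun hu => he.2 (by
    show (ends e.1).2 ∈ S
    rw [hu]; exact Finset.mem_univ _)
  have hother : ∀ e' : {e : E // e ∈ T}, e' ≠ e → ((ends e'.1).1 ∈ S ↔ (ends e'.1).2 ∈ S) := fun e' hne' =>
    (mem_side_iff (spanEnds ends T) hT e' e).2 hne'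
  constructor
  · have h1 := h S hne hnu
    rw [← sub_pos, defect_eq ends T hT φ m hdeg S, Finset.sum_eq_single e] at h1
    · rw [if_pos (show (ends e.1).1 ∈ S from he.1), if_neg (show (ends e.1).2 ∉ S from he.2),
        if_pos (Or.inl ⟨he.1, he.2⟩)] at h1
      linarith
    · intro e' _ hne'
      have := hother e' hne'
      simp [this]
    · simp
  · have hne2 : Sᶜ.Nonempty := ⟨_, Finset.mem_compl.2 he.2⟩
    have hnu2 : Sᶜ ≠ univ := fun hu => by
      obtain ⟨v, hv⟩ := hne
      exact Finset.mem_compl.1 (hu ▸ Finset.mem_univ v) hv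
    have h1 := h Sᶜ hne2 hnu2
    rw [← sub_pos, defect_eq ends T hT φ m hdeg Sᶜ, Finset.sum_eq_single e] at h1
    · simp only [Finset.mem_compl] at h1
      rw [if_neg (not_not.2 (show (ends e.1).1 ∈ S from he.1)), if_pos (show (ends e.1).2 ∉ S from he.2),
        if_pos (Or.inr ⟨not_not.2 he.1, he.2⟩)] at h1
      linarith
    · intro e' _ hne'
      have := hother e' hne'
      simp [this]
    · simp

/-- Existence of a semistable datum on the complement of a spanning tree. -/
theorem exists_isSemistable (hT : DualGr.IsTree (spanEnds ends T)) (b : ℤ) (φ : V → ℝ)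
    (hφ : (∑ v, φ v) = (b : ℝ)) :
    ∃ m : V → ℤ, totDeg m Tᶜ = b ∧ IsSemistable ends φ m Tᶜ := by
  obtain ⟨⟨r⟩, -⟩ := hT.1
  let g := spanEnds ends T
  let m0 : V → ℤ := Pi.single r (b - (Tᶜ).card)
  let A : {e : E // e ∈ T} → ℝ := fun e => ∑ v ∈ side g e, bal ends T φ m0 v
  let k : {e : E // e ∈ T} → ℤ := fun e => ⌈-A e - 1 / 2⌉
  let m : V → ℤ := fun v => m0 v + flow g k v
  have hdeg : totDeg m Tᶜ = b := by
    simp [totDeg, m, m0, Finset.sum_add_distrib, sum_univ_flow]
  have hdegR : (∑ v, φ v) = (totDeg m Tᶜ : ℝ) := by rw [hdeg, hφ]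
  have hy : ∀ e, ∑ v ∈ side g e, bal ends T φ m v = A e + (k e : ℝ) := fun e => by
    rw [← sum_side_flow g hT k e, Int.cast_sum, ← Finset.sum_add_distrib]
    refine Finset.sum_congr rfl fun v _ => ?_
    simp only [bal, m]; push_cast; ring
  refine ⟨m, hdeg, fun S _ _ => ?_⟩
  rw [← sub_nonneg, defect_eq ends T hT φ m hdegR S]
  refine Finset.sum_nonneg fun e _ => ?_
  have h1 := Int.le_ceil (-A e - 1 / 2)
  have h2 := Int.ceil_lt_add_one (-A e - 1 / 2)
  rw [show side (spanEnds ends T) e = side g e from rfl, hy e]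
  by_cases ha : (ends e.1).1 ∈ S <;> by_cases hb : (ends e.1).2 ∈ S <;>
    simp [ha, hb, k] <;> linarith

theorem existsUnique_isStable (hT : DualGr.IsTree (spanEnds ends T)) (b : ℤ) (φ : V → ℝ)
    (hφ : (∑ v, φ v) = (b : ℝ)) (hnd : Nondegenerate ends φ) :
    ∃! m : V → ℤ, totDeg m Tᶜ = b ∧ IsStable ends φ m Tᶜ := by
  obtain ⟨m, hm, hss⟩ := exists_isSemistable ends T hT b φ hφ
  refine ⟨m, ⟨hm, hnd m Tᶜ (by rw [hm, hφ]) hss⟩, ?_⟩
  rintro m' ⟨hm', hs'⟩
  have hd : ∀ {n : V → ℤ}, totDeg n Tᶜ = b → (∑ v, φ v) = (totDeg n Tᶜ : ℝ) := fun h => by rw [h, hφ]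
  have hs := hnd m Tᶜ (hd hm) hss
  have hbal : bal ends T φ m' = bal ends T φ m := by
    rw [eq_flow (spanEnds ends T) hT (bal ends T φ m') (by rw [sum_bal_univ, hd hm', sub_self]),
      eq_flow (spanEnds ends T) hT (bal ends T φ m) (by rw [sum_bal_univ, hd hm, sub_self])]
    congr 1
    funext e
    have h1 := abs_lt_of_isStable ends T hT φ m (hd hm) hs e
    have h2 := abs_lt_of_isStable ends T hT φ m' (hd hm') hs' e
    have h3 : (∑ v ∈ side (spanEnds ends T) e, bal ends T φ m' v) -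
        (∑ v ∈ side (spanEnds ends T) e, bal ends T φ m v) =
        ((∑ v ∈ side (spanEnds ends T) e, (m' v - m v) : ℤ) : ℝ) := by
      rw [← Finset.sum_sub_distrib, Int.cast_sum]
      refine Finset.sum_congr rfl fun v _ => ?_
      simp only [bal]; push_cast; ring
    have h4 : (∑ v ∈ side (spanEnds ends T) e, (m' v - m v) : ℤ) = 0 := by
      apply le_antisymm <;> rw [← Int.lt_add_one_iff] <;>
        · apply (Int.cast_lt (R := ℝ)).1
          push_cast at h3 ⊢
          linarith
    rw [h4, Int.cast_zero, sub_eq_zero] at h3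
    exact h3
  funext v
  have := congrFun hbal v
  simp only [bal] at this
  exact_mod_cast (show ((m' v : ℤ) : ℝ) = (m v : ℝ) by linarith)

/-- A spanning tree inside a connected spanning set of edges. -/
theorem exists_tree_subset (F : Finset E) (hF : LabGraph.Connected (spanEnds ends F)) :
    ∃ T ⊆ F, DualGr.IsTree (spanEnds ends T) := by
  classical
  let col : E → V → ZMod 2 := fun e => Pi.single (ends e).1 1 + Pi.single (ends e).2 1
  obtain ⟨B, hBF, -, hspan, hli⟩ := exists_linearIndepOn_extension (K := ZMod 2)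
    (v := col) (s := (∅ : Set E)) (t := (F : Set E)) (linearIndepOn_empty _ _) (Set.empty_subset _)
  let T := B.toFinset
  refine ⟨T, fun e he => Finset.mem_coe.1 (hBF (Set.mem_toFinset.1 he)), ⟨hF.1, fun a w => ?_⟩, ?_⟩
  · by_contra hcon
    let S : Finset V := univ.filter fun v => Relation.ReflTransGen (LabGraph.Adj (spanEnds ends T)) a v
    have hS : ∀ e ∈ T, ((ends e).1 ∈ S ↔ (ends e).2 ∈ S) := fun e he => by
      simp only [S, Finset.mem_filter, Finset.mem_univ, true_and]
      exact ⟨fun h => h.tail ⟨⟨e, he⟩, Or.inl rfl⟩, fun h => h.tail ⟨⟨e, he⟩, Or.inr rfl⟩⟩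
    let ℓ : (V → ZMod 2) →ₗ[ZMod 2] ZMod 2 := ∑ v ∈ S, LinearMap.proj v
    have hℓ : ∀ e, ℓ (col e) = (if (ends e).1 ∈ S then 1 else 0) + (if (ends e).2 ∈ S then 1 else 0) := fun e => by
      simp [ℓ, col, Finset.sum_add_distrib, Pi.single_apply]
    have hker : Submodule.span (ZMod 2) (col '' B) ≤ LinearMap.ker ℓ := by
      rw [Submodule.span_le]
      rintro _ ⟨e, he, rfl⟩
      rw [SetLike.mem_coe, LinearMap.mem_ker, hℓ]
      simp only [hS e (Set.mem_toFinset.2 he)]
      split_ifs <;> decide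
    obtain ⟨⟨e, he⟩, h⟩ := exists_cut_edge (spanEnds ends F) hF S ⟨a, by simp [S, Relation.ReflTransGen.refl]⟩
      (fun hu => hcon (by
        have : w ∈ S := hu ▸ Finset.mem_univ w
        simpa [S] using this))
    have h0 : ℓ (col e) = 0 := LinearMap.mem_ker.1 (hker (hspan ⟨e, he, rfl⟩))
    rw [hℓ] at h0
    rcases h with ⟨h1, h2⟩ | ⟨h1, h2⟩ <;> simp only [spanEnds] at h1 h2 <;> simp [h1, h2] at h0
  · rw [isForest_iff_injective]
    have : LinearIndependent (ZMod 2) (fun e : {e : E // e ∈ T} => col e.1) :=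
      hli.comp (fun e : {e : E // e ∈ T} => (⟨e.1, Set.mem_toFinset.1 e.2⟩ : B))
        (fun a b h => Subtype.ext (congrArg (fun z : B => z.1) h))
    intro x y hxy
    exact (linearIndependent_iff_injective_fintypeLinearCombination.1 this) hxy

theorem forall_iff_inClosedPolytope (hconn : LabGraph.Connected ends) (b : ℤ) (φ₁ φ₂ : V → ℝ)
    (h₁ : (∑ v, φ₁ v) = (b : ℝ)) (hnd : Nondegenerate ends φ₁)
    (hcrit : ∀ (m : V → ℤ) (N : Finset E), totDeg m N = b →
      (∀ S : Finset V, IsElementary ends S →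
        (∑ v ∈ S, φ₂ v) - (LabGraph.cut ends S : ℝ) / 2 ≤ (degOn ends m N S : ℝ)) →
      IsSemistable ends φ₂ m N)
    (hne : ∀ S : Finset V, IsElementary ends S → S.Nonempty ∧ S ≠ univ) :
    (∀ (m : V → ℤ) (N : Finset E), totDeg m N = b → IsStable ends φ₁ m N → IsSemistable ends φ₂ m N) ↔
      InClosedPolytope ends φ₁ φ₂ := by
  classical
  constructor
  · intro h S hS d hd
    obtain ⟨hSne, hSnu⟩ := hne S hS
    obtain ⟨e₀, he₀⟩ := exists_cut_edge ends hconn S hSne hSnu
    let F : Finset E := insert e₀ (inner ends S ∪ inner ends Sᶜ)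
    have hF : LabGraph.Connected (spanEnds ends F) := by
      have hsym : ∀ x y, LabGraph.Adj (spanEnds ends F) x y → LabGraph.Adj (spanEnds ends F) y x :=
        fun x y ⟨e, he⟩ => ⟨e, he.symm⟩
      have hin : ∀ U : Finset V, LabGraph.Connected (indEnds ends U) → inner ends U ⊆ F →
          ∀ x ∈ U, ∀ y ∈ U, Relation.ReflTransGen (LabGraph.Adj (spanEnds ends F)) x y := by
        intro U hU hUF x hx y hy
        have := hU.2 ⟨x, hx⟩ ⟨y, hy⟩
        refine Relation.ReflTransGen.lift (f := fun z : {v : V // v ∈ U} => z.1) ?_ _ _ this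
        rintro p q ⟨e, he⟩
        refine ⟨⟨e.1, hUF e.2⟩, ?_⟩
        rcases he with he | he
        · exact Or.inl (Prod.ext (congrArg (fun z => (Prod.fst z).1) he) (congrArg (fun z => (Prod.snd z).1) he))
        · exact Or.inr (Prod.ext (congrArg (fun z => (Prod.fst z).1) he) (congrArg (fun z => (Prod.snd z).1) he))
      have h0 : LabGraph.Adj (spanEnds ends F) (ends e₀).1 (ends e₀).2 :=
        ⟨⟨e₀, Finset.mem_insert_self _ _⟩, Or.inl rfl⟩
      have hS1 := hin S hS.1 fun e he => Finset.mem_insert_of_mem (Finset.mem_union_left _ he)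
      have hS2 := hin Sᶜ hS.2 fun e he => Finset.mem_insert_of_mem (Finset.mem_union_right _ he)
      refine ⟨⟨hSne.choose⟩, fun x y => ?_⟩
      have hsy : ∀ {a b : V}, Relation.ReflTransGen (LabGraph.Adj (spanEnds ends F)) a b →
          Relation.ReflTransGen (LabGraph.Adj (spanEnds ends F)) b a := by
        intro a b hab
        induction hab with
        | refl => exact .refl
        | tail _ h ih => exact Relation.ReflTransGen.head (hsym _ _ h) ih
      obtain ⟨p, q, hp, hq, hpq⟩ : ∃ p q, p ∈ S ∧ q ∈ Sᶜ ∧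
          Relation.ReflTransGen (LabGraph.Adj (spanEnds ends F)) p q := by
        rcases he₀ with ⟨h1, h2⟩ | ⟨h1, h2⟩
        · exact ⟨_, _, h1, Finset.mem_compl.2 h2, .single h0⟩
        · exact ⟨_, _, h2, Finset.mem_compl.2 h1, .single (hsym _ _ h0)⟩
      have hto : ∀ z, Relation.ReflTransGen (LabGraph.Adj (spanEnds ends F)) p z := fun z => by
        by_cases hz : z ∈ S
        · exact hS1 p hp z hz
        · exact hpq.trans (hS2 q hq z (Finset.mem_compl.2 hz))
      exact (hsy (hto x)).trans (hto y)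
    obtain ⟨T, hTF, hT⟩ := exists_tree_subset ends F hF
    obtain ⟨m, ⟨hm, hst⟩, -⟩ := existsUnique_isStable ends T hT b φ₁ h₁ hnd
    have hdeg : (∑ v, φ₁ v) = (totDeg m Tᶜ : ℝ) := by rw [hm, h₁]
    have hlt : (degOn ends m Tᶜ S : ℝ) - ((∑ v ∈ S, φ₁ v) - (LabGraph.cut ends S : ℝ) / 2) < 1 := by
      obtain ⟨i, hi⟩ := exists_cut_edge (spanEnds ends T) hT.1 S hSne hSnu
      rw [defect_eq ends T hT φ₁ m hdeg S, Finset.sum_eq_single i]
      · have h2 := abs_lt_of_isStable ends T hT φ₁ m hdeg hst i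
        rcases hi with ⟨a, b'⟩ | ⟨a, b'⟩ <;> simp only [spanEnds] at a b' <;> simp [a, b'] <;> linarith
      · intro j _ hj
        have hje : ∀ l : {e : E // e ∈ T}, (((ends l.1).1 ∈ S ∧ (ends l.1).2 ∉ S) ∨
            ((ends l.1).1 ∉ S ∧ (ends l.1).2 ∈ S)) → l.1 = e₀ := by
          intro l hl
          rcases Finset.mem_insert.1 (hTF l.2) with h | h
          · exact h
          · rcases Finset.mem_union.1 h with h | h <;>
              simp only [PhiStab.inner, Finset.mem_filter, Finset.mem_univ, true_and, Finset.mem_compl] at h <;> tauto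
        have hij : ¬ (((ends j.1).1 ∈ S ∧ (ends j.1).2 ∉ S) ∨ ((ends j.1).1 ∉ S ∧ (ends j.1).2 ∈ S)) :=
          fun hl => hj (Subtype.ext ((hje j hl).trans (hje i hi).symm))
        rw [if_neg hij]
        by_cases a : (ends j.1).1 ∈ S <;> by_cases b' : (ends j.1).2 ∈ S <;> simp_all
      · simp
    have hle : degOn ends m Tᶜ S ≤ d := by
      rw [← Int.lt_add_one_iff]
      apply (Int.cast_lt (R := ℝ)).1
      simp only [ell] at hd
      push_cast
      linarith
    have h2 := h m Tᶜ hm hst S hSne hSnu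
    have hle' : (degOn ends m Tᶜ S : ℝ) ≤ (d : ℝ) := Int.cast_le.2 hle
    simp only [ell]
    linarith
  · intro h m N hm hst
    refine hcrit m N hm fun S hS => ?_
    obtain ⟨hSne, hSnu⟩ := hne S hS
    have h1 := hst S hSne hSnu
    have h2 := h S hS (degOn ends m N S) (by simp only [ell]; linarith)
    simp only [ell] at h2
    linarith

end Stab

end Groth.Agent.PhiStabLib
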